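import Cfsg.Agent.H100.Ppd.Defs
import Cfsg.Agent.H912.LSUse
import Cfsg.Agent.H919.AschSplit
import Cfsg.Prelude.Def_KGroupFacts

/-!
# TEAM PPD (S5948): basic consequences of a row (helper100)

`Row.exists_aut`, `Row.exists_aut'`, `Row.dvd_card` : an automorphism of order `m` of `Soc P`;
`Row.exists_elt` : an element of order `m` of `T`, if `m` is prime to `|Out T|`;
`Row.kill` : the numeric criterion; `Row.le_of_ls`, `Row.le_of_bd` : degree bounds.
-/

set_option autoImplicit false
set_option linter.unusedSectionVars false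

namespace Cfsg.Agent.H100.Ppd

open Cfsg Cfsg.Geo Matrix
open Cfsg.Agent.H915.LD

universe u v w

variable {n : ℕ} {F : Type u} [Field F] [Finite F] {k m : ℕ} {P : Subgroup (GL (Fin n) F)}

/-- The scalars of `P` are preserved by every automorphism of `P` (`P` absolutely irreducible). -/
theorem scalars_eq_center (hP : ActsAbsolutelyIrreducibly (matrixSet P)) :
    (scalars (Fin n) F).subgroupOf P = Subgroup.center P := by
  apply le_antisymm scalars_le_center
  intro z hz
  rw [Subgroup.mem_subgroupOf]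
  refine H920.mem_scalars_of_comm' hP ?_
  intro x hx
  have := (Subgroup.mem_center_iff.1 hz) ⟨x, hx⟩
  exact (congrArg Subtype.val this).symm

/-- An automorphism of `P` induces one of `Soc P`. -/
noncomputable def socAut (hP : ActsAbsolutelyIrreducibly (matrixSet P)) : MulAut P →* MulAut (Soc P) where
  toFun φ := QuotientGroup.congr _ _ φ (by
    rw [scalars_eq_center hP]
    exact Subgroup.characteristic_iff_map_eq.1 inferInstance φ)
  map_one' := by
    ext x
    induction x using QuotientGroup.induction_on with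
    | H x => rfl
  map_mul' a b := by
    ext x
    induction x using QuotientGroup.induction_on with
    | H x => rfl

theorem socAut_mk (hP : ActsAbsolutelyIrreducibly (matrixSet P)) (φ : MulAut P) (x : P) :
    socAut hP φ (toSoc P x) = toSoc P (φ x) := rfl

theorem mem_normalizer {g : GL (Fin n) F} (hg : ∀ x ∈ P, g * x * g⁻¹ ∈ P) :
    g ∈ Subgroup.normalizer (P : Set (GL (Fin n) F)) := by
  rw [Subgroup.mem_normalizer_iff]
  have hinj : Function.Injective (fun x : P => (⟨g * x * g⁻¹, hg x x.2⟩ : P)) := by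
    intro a b hab
    have h1 : g * (a : GL (Fin n) F) * g⁻¹ = g * b * g⁻¹ := congrArg Subtype.val hab
    exact Subtype.ext (mul_left_cancel (mul_right_cancel h1))
  intro x
  refine ⟨fun hx => hg x hx, fun hx => ?_⟩
  obtain ⟨y, hy⟩ := (Finite.injective_iff_surjective.1 hinj) ⟨_, hx⟩
  have h1 : g * (y : GL (Fin n) F) * g⁻¹ = g * x * g⁻¹ := congrArg Subtype.val hy
  have h2 : (y : GL (Fin n) F) = x := mul_left_cancel (mul_right_cancel h1)
  rw [← h2]
  exact y.2

/-- conjugation by `g`, `g` in the normaliser of `P`, on `Soc P` -/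
noncomputable def conjSoc (hP : ActsAbsolutelyIrreducibly (matrixSet P)) :
    Subgroup.normalizer (P : Set (GL (Fin n) F)) →* MulAut (Soc P) :=
  (socAut hP).comp P.normalizerMonoidHom

theorem conjSoc_mk (hP : ActsAbsolutelyIrreducibly (matrixSet P)) (g : Subgroup.normalizer (P : Set (GL (Fin n) F)))
    (x : P) : conjSoc hP g (toSoc P x) = toSoc P ⟨g * x * (g : GL (Fin n) F)⁻¹,
      (Subgroup.mem_normalizer_iff.1 g.2 x).1 x.2⟩ := rfl

/-- what acts trivially on `Soc P` is scalar -/
theorem scalar_of_conjSoc (hC : Core P) {g : Subgroup.normalizer (P : Set (GL (Fin n) F))}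
    (h : conjSoc hC.absIrred g = 1) : (g : GL (Fin n) F) ∈ scalars (Fin n) F := by
  have h1 : ∀ x ∈ P, (g : GL (Fin n) F) * x * (g : GL (Fin n) F)⁻¹ * x⁻¹ ∈ scalars (Fin n) F := by
    intro x hx
    have h2 : conjSoc hC.absIrred g (toSoc P ⟨x, hx⟩) = toSoc P ⟨x, hx⟩ := by rw [h]; rfl
    rw [conjSoc_mk] at h2
    obtain ⟨c, hc⟩ := exists_of_toSoc_eq h2
    simp only at hc
    rw [mem_scalars_iff]
    refine ⟨c⁻¹, ?_⟩
    have h3 : (g : GL (Fin n) F) * x * (g : GL (Fin n) F)⁻¹ * x⁻¹ =
      (g : GL (Fin n) F) * x * (g : GL (Fin n) F)⁻¹ * x⁻¹ := rfl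
    have h4 : (((g : GL (Fin n) F) * x * (g : GL (Fin n) F)⁻¹ : GL (Fin n) F) : Matrix (Fin n) (Fin n) F) =
        ((c⁻¹ : Fˣ) : F) • (x : Matrix (Fin n) (Fin n) F) := by
      rw [hc, smul_smul, ← Units.val_mul, inv_mul_cancel, Units.val_one, one_smul]
    rw [Units.val_mul, h4, Matrix.smul_mul, ← Units.val_mul, mul_inv_cancel, Units.val_one]
  have h2 := H919.commute_of_perfect hC.perfect (H919.scalars_comm (ι := Fin n) (F := F)) h1
  exact H920.mem_scalars_of_comm' hC.absIrred h2

theorem Num.coprime_sub_one {q n k m : ℕ} (h : Num q n k m) : Nat.Coprime m (q - 1) := by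
  have h1 := h.cop 1 (le_refl 1) (by have := h.six_le; omega)
  rwa [pow_one] at h1

/-- a scalar of order dividing a power of `m` is trivial -/
theorem Row.eq_one_of_scalar (h : Row k m P) {g : GL (Fin n) F} (hg : g ∈ scalars (Fin n) F) (hgm : g ^ m = 1) :
    g = 1 := by
  obtain ⟨c, hc⟩ := (mem_scalars_iff g).1 hg
  have hcard : (c : F) ^ (Nat.card F - 1) = 1 := by
    have : Fintype F := Fintype.ofFinite F
    rw [Nat.card_eq_fintype_card]
    exact FiniteField.pow_card_sub_one_eq_one _ c.ne_zero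
  have h1 : g ^ (Nat.card F - 1) = 1 := by
    apply Units.ext
    rw [Units.val_pow_eq_pow_val, hc, smul_pow, hcard, one_pow, one_smul]
    rfl
  have h2 := Nat.dvd_gcd (orderOf_dvd_of_pow_eq_one hgm) (orderOf_dvd_of_pow_eq_one h1)
  have h3 : Nat.gcd m (Nat.card F - 1) = 1 := h.num.coprime_sub_one
  rw [h3, Nat.dvd_one, orderOf_eq_one_iff] at h2
  exact h2

/-- **An automorphism of order `m`.** -/
theorem Row.exists_aut (h : Row k m P) : ∃ x : MulAut (Soc P), orderOf x = m := by
  obtain ⟨g, hgm, hg⟩ := h.elt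
  have hN := mem_normalizer hg
  refine ⟨conjSoc h.core.absIrred ⟨g, hN⟩, ?_⟩
  apply Nat.dvd_antisymm
  · apply orderOf_dvd_of_pow_eq_one
    rw [← map_pow]
    have h1 : (⟨g, hN⟩ : Subgroup.normalizer (P : Set (GL (Fin n) F))) ^ m = 1 := by
      apply Subtype.ext
      rw [Subgroup.coe_pow, ← hgm, pow_orderOf_eq_one]
      rfl
    rw [h1, map_one]
  · conv_lhs => rw [← hgm]
    apply orderOf_dvd_of_pow_eq_one
    set j := orderOf (conjSoc h.core.absIrred ⟨g, hN⟩) with hj
    have h1 : conjSoc h.core.absIrred (⟨g, hN⟩ ^ j) = 1 := by rw [map_pow, hj, pow_orderOf_eq_one]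
    have h2 := scalar_of_conjSoc h.core h1
    rw [Subgroup.coe_pow] at h2
    apply h.eq_one_of_scalar h2
    rw [← pow_mul, mul_comm, pow_mul]
    simp only
    rw [← hgm, pow_orderOf_eq_one, one_pow]

section equiv

variable {T : Type v} [Group T] (e : Soc P ≃* T)

theorem Row.exists_aut' (h : Row k m P) (e : Soc P ≃* T) : ∃ x : MulAut T, orderOf x = m := by
  obtain ⟨x, hx⟩ := h.exists_aut
  refine ⟨MulAut.congr e x, ?_⟩
  rw [← hx]
  exact orderOf_injective (MulAut.congr e).toMonoidHom (MulAut.congr e).injective x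

instance finite_soc (P : Subgroup (GL (Fin n) F)) : Finite (Soc P) := inferInstance

theorem Row.dvd_card (h : Row k m P) (e : Soc P ≃* T) : m ∣ Nat.card (MulAut T) := by
  obtain ⟨x, hx⟩ := h.exists_aut' e
  rw [← hx]
  exact orderOf_dvd_natCard x

theorem Row.simple (h : Row k m P) (e : Soc P ≃* T) : IsSimpleGroup T :=
  have := h.core.simple
  (e.symm.isSimpleGroup)

theorem Row.not_comm (h : Row k m P) (e : Soc P ≃* T) : ¬ IsMulCommutative T := by
  intro hc
  apply h.core.nonabelian
  refine ⟨⟨fun a b => e.injective ?_⟩⟩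
  rw [map_mul, map_mul]
  exact hc.is_comm.comm _ _

/-- an element of order `m` -/
theorem Row.exists_elt (h : Row k m P) (e : Soc P ≃* T) (hcop : m.Coprime (Nat.card (Cfsg.Out T))) :
    ∃ y : T, orderOf y = m := by
  obtain ⟨x, hx⟩ := h.exists_aut' e
  have hfinT : Finite T := Finite.of_equiv _ e.toEquiv
  have hsimple := h.simple e
  have hcen : Subgroup.center T = ⊥ := by
    rcases hsimple.eq_bot_or_eq_top_of_normal (Subgroup.center T) inferInstance with h1 | h1
    · exact h1
    · exfalso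
      apply h.not_comm e
      refine ⟨⟨fun a b => ?_⟩⟩
      have : b ∈ Subgroup.center T := by rw [h1]; trivial
      exact (Subgroup.mem_center_iff.1 this) a
  have hinj : Function.Injective (MulAut.conj : T →* MulAut T) := by
    rw [← MonoidHom.ker_eq_bot_iff, eq_bot_iff, ← hcen]
    intro y hy
    rw [MonoidHom.mem_ker] at hy
    rw [Subgroup.mem_center_iff]
    intro z
    have h1 : (MulAut.conj y) z = z := by rw [hy]; rfl
    rw [MulAut.conj_apply] at h1
    calc z * y = (y * z * y⁻¹) * y := by rw [h1]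
      _ = y * z := by group
  have hmem : x ∈ Inn T := by
    have h1 : ((x : Cfsg.Out T)) ^ Nat.card (Cfsg.Out T) = 1 := pow_card_eq_one'
    have h2 : ((x : Cfsg.Out T)) ^ m = 1 := by
      rw [← QuotientGroup.mk_pow, ← hx, pow_orderOf_eq_one, QuotientGroup.mk_one]
    have h3 := Nat.dvd_gcd (orderOf_dvd_of_pow_eq_one h2) (orderOf_dvd_of_pow_eq_one h1)
    rw [hcop, Nat.dvd_one, orderOf_eq_one_iff, QuotientGroup.eq_one_iff] at h3
    exact h3
  obtain ⟨y, hy⟩ := hmem
  refine ⟨y, ?_⟩
  rw [← hx, ← hy]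
  exact (orderOf_injective _ hinj y).symm

/-- **The numeric criterion for the group.** -/
theorem Row.kill (h : Row k m P) (e : Soc P ≃* T) {N : ℕ} (hN : Nat.card (MulAut T) ∣ N) {r₀ : ℕ}
    (hle : r₀ ≤ 2 * k + 1) (hu : ∀ r, r.Prime → r ∣ N → k ∣ r - 1 → k + 1 ≤ r → r = r₀) (hsq : ¬ r₀ ^ 2 ∣ N) :
    False := by
  have hmN : m ∣ N := (h.dvd_card e).trans hN
  exact h.num.kill hle (fun r hr hrm => hu r hr (hrm.trans hmN) (h.num.dvd_sub_one hr hrm) (h.num.succ_le hr hrm))
    (fun h1 => hsq (h1.trans hmN))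

theorem Row.le_of_ls (h : Row k m P) (e : Soc P ≃* T) {r d : ℕ} (hrF : (r : F) ≠ 0)
    (hLS : H203.LS.LS.{v, u, u} r d T) : d ≤ n := by
  have := h.simple e
  exact H912.Bd.le_of_ls hLS hrF P h.core.perfect e

theorem Row.le_of_bd (h : Row k m P) (e : Soc P ≃* T) {r d : ℕ}
    (hr : (Nat.card ((scalars (Fin n) F).subgroupOf P)).Coprime r) (hBd : H912.Bd.Bd F r d T) : d ≤ n :=
  hBd n (h.core.pr e hr)

end equiv

end Cfsg.Agent.H100.Ppd
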