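import Cfsg.Agent.H100.Ppd.Basic
import Cfsg.Agent.H371.Ppd.Exc

/-!
# TEAM PPD (S5948): no exceptional Chevalley group in cross characteristic (helper100)
-/

set_option autoImplicit false

namespace Cfsg.Agent.H100.Ppd

open Cfsg Cfsg.Geo Matrix
open Cfsg.Agent.H915.LD

universe u v w

variable {n : ℕ} {F : Type u} [Field F] [Finite F] {k m : ℕ} {P : Subgroup (GL (Fin n) F)}

theorem Row.not_cross_exc (h : Row k m P) {r : ℕ} (hr : r.Prime) (hrF : (r : F) ≠ 0)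
    (hT : IsExceptionalChevChar r (Soc P)) : False := by
  obtain ⟨K, _, _, _, hT⟩ := hT
  rcases hT with ⟨h3, ⟨e⟩⟩ | ⟨⟨e⟩⟩ | ⟨⟨e⟩⟩ | ⟨⟨e⟩⟩ | ⟨⟨e⟩⟩
  · exact H371.Ppd.row_g2 h hr hrF h3 e
  · exact H371.Ppd.row_f4 h hr hrF e
  · exact H371.Ppd.row_e6 h hr hrF e
  · exact H371.Ppd.row_e7 h hr hrF e
  · exact H371.Ppd.row_e8 h hr hrF e

end Cfsg.Agent.H100.Ppd
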