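import Cfsg.Agent.H100.Ppd.Basic
import Cfsg.Agent.H38.PpdAlt
import Cfsg.Agent.H38.PpdPsl2
import Cfsg.Agent.H38.PpdPsp
import Cfsg.Agent.H270.Ppd.RowPsl
import Cfsg.Agent.H145.SLx2.Row
import Cfsg.Agent.H623.PpdPsu
import Cfsg.Agent.H194.Ppd.Orth
import Cfsg.Agent.H12.Ppd.Exc2
import Cfsg.Agent.H12.Ppd.SzRee

/-!
# TEAM PPD (S5948): groups of Lie type in cross characteristic, alternating groups, the Tits group (helper100)
-/

set_option autoImplicit false

namespace Cfsg.Agent.H100.Ppd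

open Cfsg Cfsg.Geo Matrix
open Cfsg.Agent.H915.LD

universe u v w

variable {n : ℕ} {F : Type u} [Field F] [Finite F] {k m : ℕ} {P : Subgroup (GL (Fin n) F)}

/-- Cross characteristic, up to the exceptional Chevalley groups. -/
theorem Row.not_cross' (h : Row k m P) {r : ℕ} (hr : r.Prime) (hrF : (r : F) ≠ 0) (hT : IsLieTypeChar r (Soc P))
    (hexc : IsExceptionalChevChar r (Soc P) → False) : False := by
  rcases hT with hT | hT | hT | hT | hT | hT | hT | hT | hT | hT | hT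
  · obtain ⟨K, _, _, _, N, h1, h2, ⟨e⟩⟩ := hT
    by_cases hN : N = 2
    · subst hN
      exact H38.Ppd.row_psl2 h hr hrF (h2 rfl) e
    · by_cases hK : 3 ≤ Fintype.card K
      · exact H270.Ppd.row_psl h hr hrF (by omega) hK e
      · have h3 : Fintype.card K = 2 := by
          have := Fintype.one_lt_card (α := K)
          omega
        have h4 : r = 2 := by
          have hfr : Fact r.Prime := ⟨hr⟩
          obtain ⟨f, hf, hK⟩ := FiniteField.card K r
          have h5 : r ∣ 2 := by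
            rw [← h3, hK]
            exact dvd_pow_self r f.ne_zero
          exact (Nat.prime_dvd_prime_iff_eq hr Nat.prime_two).1 h5
        subst h4
        exact H145.SLx2.row_psl_two h (by exact_mod_cast hrF) (by omega) h3 e
  · obtain ⟨K, _, _, _, N, h1, h2, ⟨e⟩⟩ := hT
    exact H38.Ppd.row_psp h hr hrF h1 h2 e
  · obtain ⟨K, _, _, _, N, q, h0, h1, h2, ⟨e⟩⟩ := hT
    exact H623.PpdPsu.row_psu h hr hrF h0 h1 h2 e
  · obtain ⟨K, _, _, _, N, h1, h2, ⟨e⟩⟩ := hT
    exact H194.Ppd.row_podd hr hrF h1 h2 h e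
  · obtain ⟨K, _, _, _, N, h1, ⟨e⟩⟩ := hT
    exact H194.Ppd.row_pplus hr hrF h1 h e
  · obtain ⟨K, _, _, _, N, a, b, h1, h2, ⟨e⟩⟩ := hT
    exact H194.Ppd.row_pminus hr hrF h1 a b h2 h e
  · exact hexc hT
  · obtain ⟨K, _, _, _, q, hq, ⟨hK, ⟨e⟩⟩ | ⟨hK, ⟨e⟩⟩⟩ := hT
    · exact H12.Ppd.row_2e6 hq hK hrF h e
    · exact H12.Ppd.row_3d4 hq hK hrF h e
  · obtain ⟨rfl, hT⟩ := hT
    exact H12.Ppd.row_sz (by exact_mod_cast hrF) h hT
  · obtain ⟨rfl, hT⟩ := hT
    exact H12.Ppd.row_2f4 (by exact_mod_cast hrF) h hT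
  · obtain ⟨rfl, hT⟩ := hT
    exact H12.Ppd.row_ree (by exact_mod_cast hrF) h hT

/-- **Part (B)**, up to the exceptional Chevalley groups and the sporadic groups. -/
theorem Row.lie' (h : Row k m P) (hk : IsKnownSimple' (Soc P))
    (hexc : ∀ r : ℕ, r.Prime → (r : F) ≠ 0 → IsExceptionalChevChar r (Soc P) → False)
    (hspor : IsSporadicGroup (Soc P) → False) :
    ∃ p : ℕ, p.Prime ∧ (p : F) = 0 ∧ IsLieTypeChar p (Soc P) := by
  have hc : ¬ IsPrimeCyclic (Soc P) := by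
    intro hc
    have h1 : Fact (Nat.card (Soc P)).Prime := ⟨hc⟩
    have h2 : IsCyclic (Soc P) := isCyclic_of_prime_card rfl
    exact h.core.nonabelian IsCyclic.isMulCommutative
  rcases H912.Known.known_split hk hc with hT | ⟨r, hr, hT⟩ | hT | hT
  · exact (H38.Ppd.row_alt h hT).elim
  · refine ⟨r, hr, ?_, hT⟩
    by_contra hrF
    exact h.not_cross' hr hrF hT (hexc r hr hrF)
  · exact (H12.Ppd.row_tits h hT).elim
  · exact (hspor hT).elim

end Cfsg.Agent.H100.Ppd
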