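import Cfsg.Agent.H100.Ppd.Basic
import Cfsg.Agent.H663.PpdSpor
import Cfsg.Agent.H592.Ppd.RowsA
import Cfsg.Agent.H592.Ppd.RowsB
import Cfsg.Agent.H592.Ppd.RowJ4
import Cfsg.Agent.H592.Ppd.RowLy
import Cfsg.Agent.H592.Ppd.RowM

/-!
# TEAM PPD (S5948): the socle is not sporadic (helper100)
-/

set_option autoImplicit false

namespace Cfsg.Agent.H100.Ppd

open Cfsg Cfsg.Geo Matrix
open Cfsg.Agent.H915.LD

universe u v w

variable {n : ℕ} {F : Type u} [Field F] [Finite F] {k m : ℕ} {P : Subgroup (GL (Fin n) F)}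

/-- No sporadic group. -/
theorem Row.not_sporadic (h : Row k m P) (hT : IsSporadicGroup (Soc P)) : False := by
  rcases hT with hT | hT | hT | hT | hT | hT | hT | hT | hT | hT | hT | hT | hT | hT | hT | hT | hT | hT | hT |
    hT | hT | hT | hT | hT | hT | hT
  · exact H592.Ppd.row_m11 h hT
  · exact H592.Ppd.row_m12 h hT
  · exact H592.Ppd.row_m22 h hT
  · exact H592.Ppd.row_m23 h hT
  · exact H592.Ppd.row_m24 h hT
  · exact H663.Ppd.row_j1 h hT
  · exact H592.Ppd.row_j2 h hT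
  · exact H592.Ppd.row_j3 h hT
  · exact H592.Ppd.row_j4 h hT
  · exact H663.Ppd.row_co1 h hT
  · exact H592.Ppd.row_co2 h hT
  · exact H592.Ppd.row_co3 h hT
  · exact H592.Ppd.row_mcl h hT
  · exact H592.Ppd.row_hs h hT
  · exact H663.Ppd.row_suz h hT
  · exact H663.Ppd.row_he h hT
  · exact H592.Ppd.row_ru h hT
  · exact H592.Ppd.row_on h hT
  · exact H592.Ppd.row_ly h hT
  · exact H663.Ppd.row_fi22 h hT
  · exact H663.Ppd.row_fi23 h hT
  · exact H592.Ppd.row_fi24 h hT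
  · exact H663.Ppd.row_hn h hT
  · exact H592.Ppd.row_th h hT
  · exact H592.Ppd.row_b h hT
  · exact H592.Ppd.row_m h hT

end Cfsg.Agent.H100.Ppd
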