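import Cfsg.Agent.H100.Ppd.Basic
import Cfsg.Agent.H462.Ppd.FieldOne
import Cfsg.Agent.H462.Ppd.FieldGood
import Cfsg.Agent.H14.PpdFD2
import Cfsg.Agent.H47.Fd.Chev
import Cfsg.Agent.H47.Fd.TwA
import Cfsg.Agent.H47.Fd.TwB

/-!
# TEAM PPD (S5948): a good prime (helper100)

`Row.good` : if the socle is of Lie type in the characteristic of `F`, some prime divisor of `m` divides its order.
-/

set_option autoImplicit false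

namespace Cfsg.Agent.H100.Ppd

open Cfsg Cfsg.Geo Matrix
open Cfsg.Agent.H915.LD

universe u v w

variable {n : ℕ} {F : Type u} [Field F] [Finite F] {k m : ℕ} {P : Subgroup (GL (Fin n) F)}

theorem Row.good_of (h : Row k m P) {T : Type v} [Group T] (e : Soc P ≃* T) (p : ℕ) [Fact p.Prime] [CharP F p]
    (hT : H462.Ppd.FD T p) : ∃ r, r.Prime ∧ r ∣ m ∧ r ∣ Nat.card (Soc P) := by
  obtain ⟨r, h1, h2, h3⟩ := H462.Ppd.good_of_FD h e p hT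
  rw [← Nat.card_congr e.toEquiv] at h3
  exact ⟨r, h1, h2, h3⟩

theorem Row.good (h : Row k m P) (p : ℕ) [hp : Fact p.Prime] [CharP F p] (hT : IsLieTypeChar p (Soc P)) :
    ∃ r, r.Prime ∧ r ∣ m ∧ r ∣ Nat.card (Soc P) := by
  have hcard : ∀ (K : Type) [Field K] [Fintype K] [CharP K p], ∃ f, 1 ≤ f ∧ Nat.card K = p ^ f := by
    intro K _ _ _
    obtain ⟨f, -, hf⟩ := FiniteField.card K p
    exact ⟨f, f.pos, by rw [Nat.card_eq_fintype_card, hf]⟩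
  rcases hT with hT | hT | hT | hT | hT | hT | hT | hT | hT | hT | hT
  · obtain ⟨K, _, _, _, N, h1, h2, ⟨e⟩⟩ := hT
    exact h.good_of e p (H462.Ppd.fd_psl p h1 h2)
  · obtain ⟨K, _, _, _, N, h1, h2, ⟨e⟩⟩ := hT
    exact h.good_of e p (H462.Ppd.fd_psp p h1 h2)
  · obtain ⟨K, _, _, _, N, q, h0, h1, h2, ⟨e⟩⟩ := hT
    exact h.good_of e p (H462.Ppd.fd_psu p h0 h1 h2)
  · obtain ⟨K, _, _, _, N, h1, h2, ⟨e⟩⟩ := hT
    obtain ⟨f, hf, hK⟩ := hcard K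
    have hodd : Odd p := by
      rw [← Nat.card_eq_fintype_card, hK] at h2
      exact (Nat.odd_pow_iff (by omega)).1 h2 
    exact h.good_of e p (H14.PpdFD2.fd_odd hf hK hodd h1)
  · obtain ⟨K, _, _, _, N, h1, ⟨e⟩⟩ := hT
    obtain ⟨f, hf, hK⟩ := hcard K
    exact h.good_of e p (H14.PpdFD2.fd_plus hf hK h1)
  · obtain ⟨K, _, _, _, N, a, b, h1, h2, ⟨e⟩⟩ := hT
    obtain ⟨f, hf, hK⟩ := hcard K
    exact h.good_of e p (H14.PpdFD2.fd_minus hf hK h1 h2)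
  · obtain ⟨K, _, _, _, hT⟩ := hT
    rcases hT with ⟨h3, ⟨e⟩⟩ | ⟨⟨e⟩⟩ | ⟨⟨e⟩⟩ | ⟨⟨e⟩⟩ | ⟨⟨e⟩⟩
    · exact h.good_of e p (H47.Fd.fd_g2 p h3)
    · exact h.good_of e p (H47.Fd.fd_f4 p)
    · exact h.good_of e p (H47.Fd.fd_e6 p)
    · exact h.good_of e p (H47.Fd.fd_e7 p)
    · exact h.good_of e p (H47.Fd.fd_e8 p)
  · obtain ⟨K, _, _, _, q, hq, ⟨hK, ⟨e⟩⟩ | ⟨hK, ⟨e⟩⟩⟩ := hT
    · exact h.good_of e p (H47.Fd.fd_2e6 p hq hK)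
    · exact h.good_of e p (H47.Fd.fd_3d4 p hq hK)
  · obtain ⟨rfl, K, _, _, μ, hμ, hK, ⟨e⟩⟩ := hT
    exact h.good_of e 2 (H47.Fd.fd_sz hμ hK)
  · obtain ⟨rfl, K, _, _, μ, hμ, hK, ⟨e⟩⟩ := hT
    exact h.good_of e 2 (H47.Fd.fd_2f4 hμ hK)
  · obtain ⟨rfl, K, _, _, μ, hμ, hK, ⟨e⟩⟩ := hT
    exact h.good_of e 3 (H47.Fd.fd_ree hμ hK)

end Cfsg.Agent.H100.Ppd
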