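import Cfsg.Agent.H100.Ppd.StructB
import Cfsg.Agent.H920.CsData
import Cfsg.Agent.H917.LinSplit
import Cfsg.Agent.H919.AschSplit
import Cfsg.Agent.H914.Sub2

/-!
# TEAM PPD (S5948): the reduction to a core (helper100)

* `num_of` : the numbers of the statement;
* `Num.kill_sympType` : class C6;
* `struct` : the two structural alternatives or a row `Row k m P` with `P ≤ H`.
-/

set_option autoImplicit false
set_option linter.unusedSectionVars false

namespace Cfsg.Agent.H100.Ppd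

open Cfsg Cfsg.Geo Matrix
open Cfsg.Agent.H915.LD
open Cfsg.Agent.H251.GeoCard

universe u v w

variable {n k m : ℕ} {F : Type u} [Field F] [Finite F]

/-- The numbers of the statement. -/
theorem num_of {g : GL (Fin n) F} (hn : 10 ≤ n) (hk : n < 2 * k) (hg1 : 2 * k + 1 < orderOf g)
    (hg2 : orderOf g ∣ Nat.card F ^ k - 1)
    (hg3 : ∀ i : ℕ, 1 ≤ i → i < k → Nat.Coprime (orderOf g) (Nat.card F ^ i - 1)) :
    Num (Nat.card F) n k (orderOf g) := by
  refine ⟨hn, ?_, hk, hg1, hg2, hg3⟩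
  by_contra hkn
  have hkn' : n < k := by omega
  obtain ⟨r, hr, hrm⟩ := Nat.exists_prime_and_dvd (n := orderOf g) (by omega)
  have hF1 : 1 < Nat.card F := Finite.one_lt_card
  have hrF : ¬ r ∣ Nat.card F := by
    intro h1
    have h2 := hrm.trans hg2
    have h3 : r ∣ Nat.card F ^ k := dvd_pow h1 (by omega)
    have h4 : 1 ≤ Nat.card F ^ k := Nat.one_le_pow _ _ (by omega)
    have h5 : r ∣ 1 := by
      have h6 := (Nat.dvd_sub_iff_right h4 h3).1 h2
      exact h6
    exact hr.one_lt.ne' (Nat.dvd_one.1 h5)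
  obtain ⟨i, hi1, hi2, hi3⟩ := div_of_dvd_card_fin hr hrF (hrm.trans (orderOf_dvd_natCard g))
  have h1 := Nat.dvd_gcd hrm hi3
  rw [hg3 i hi1 (by omega)] at h1
  exact hr.one_lt.ne' (Nat.dvd_one.1 h1)

/-- **Class C6**. -/
theorem Num.kill_sympType (h : Num (Nat.card F) n k m) {g : GL (Fin n) F} (hg : orderOf g = m) {s c : ℕ}
    {R : Subgroup (GL (Fin n) F)} (habs : ActsAbsolutelyIrreducibly (matrixSet R))
    (hst : IsSymplecticTypeGroup s R) (hc : 1 ≤ c) (hn : Fintype.card (Fin n) = s ^ c)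
    (hcases : (Odd s ∧ Nat.card (Subgroup.center R) = s ∧ Nat.card R = s ^ (1 + 2 * c)) ∨
       (s = 2 ∧ Nat.card (Subgroup.center R) = 4 ∧ Nat.card R = 2 ^ (2 + 2 * c)) ∨
       (s = 2 ∧ Nat.card (Subgroup.center R) = 2 ∧ Nat.card R = 2 ^ (1 + 2 * c)))
    (hcomm : ∀ x ∈ R, ∀ y ∈ R, x * y * x⁻¹ * y⁻¹ ∈ scalars (Fin n) F)
    (hgR : g ∈ subgroupNormalizer R) : False := by
  classical
  have hne : Nonempty (Fin n) := ⟨⟨0, by have := h.ten; omega⟩⟩
  have hpow : ∀ x ∈ R, x ^ s ∈ scalars (Fin n) F := by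
    rcases hcases with h1 | h1 | ⟨h1, h2, -⟩
    · exact H920.pow_of_type hst habs (Or.inl h1)
    · exact H920.pow_of_type hst habs (Or.inr h1)
    · intro x hx
      have h3 : (⟨x, hx⟩ : R) ^ s ∈ Subgroup.center R := by
        rw [Subgroup.mem_center_iff]
        intro y
        set X : R := ⟨x, hx⟩ with hX
        have h4 : y * X * y⁻¹ * X⁻¹ ∈ Subgroup.center R :=
          H920.mem_center_of_mem_scalars habs (hcomm y y.2 x hx)
        set z : R := y * X * y⁻¹ * X⁻¹ with hz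
        have h5 : z ^ 2 = 1 := by
          have h6 : (⟨z, h4⟩ : Subgroup.center R) ^ Nat.card (Subgroup.center R) = 1 := pow_card_eq_one'
          rw [h2] at h6
          exact congrArg Subtype.val h6
        have h6 : y * X * y⁻¹ = z * X := by rw [hz]; group
        have h7 : (y * X * y⁻¹) ^ 2 = X ^ 2 := by
          rw [h6, (Subgroup.mem_center_iff.1 h4 X : X * z = z * X).symm, (show Commute X z from
            Subgroup.mem_center_iff.1 h4 X).mul_pow, h5, mul_one]
        rw [conj_pow] at h7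
        rw [h1]
        calc y * X ^ 2 = (y * X ^ 2 * y⁻¹) * y := by group
          _ = X ^ 2 * y := by rw [h7]
      exact H920.mem_scalars_of_mem_center habs h3
  obtain ⟨C⟩ := H920.exists_coord habs hcomm hst.prime hc hpow hn
  have hsF : s ∣ Nat.card F - 1 := by
    have h1 : s ∣ Nat.card (Subgroup.center R) := by
      rcases hcases with h1 | h1 | h1
      · rw [h1.2.1]
      · rw [h1.2.1, h1.1]; decide
      · rw [h1.2.1, h1.1]
    have hsF' : Fact s.Prime := ⟨hst.prime⟩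
    obtain ⟨z, hz⟩ := exists_prime_orderOf_dvd_card' s h1
    have h2 : orderOf ((z : R) : GL (Fin n) F) = s := by
      rw [Subgroup.orderOf_coe, Subgroup.orderOf_coe, hz]
    obtain ⟨u, hu⟩ := (Cfsg.Geo.mem_scalars_iff _).1 (H920.mem_scalars_of_mem_center habs z.2)
    have hpw : ∀ i : ℕ, ((((z : R) : GL (Fin n) F) ^ i : GL (Fin n) F) : Matrix (Fin n) (Fin n) F) =
        ((u ^ i : Fˣ) : F) • (1 : Matrix (Fin n) (Fin n) F) := by
      intro i
      rw [Units.val_pow_eq_pow_val, hu, smul_pow, one_pow, Units.val_pow_eq_pow_val]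
    have hone : ∀ i : ℕ, ((z : R) : GL (Fin n) F) ^ i = 1 ↔ u ^ i = 1 := by
      intro i
      constructor
      · intro h3
        have h4 := hpw i
        rw [h3] at h4
        have h5 := congrFun (congrFun h4 hne.some) hne.some
        rw [Units.val_one, Matrix.smul_apply, Matrix.one_apply_eq, smul_eq_mul, mul_one] at h5
        exact Units.ext h5.symm
      · intro h3
        apply Units.ext
        rw [hpw, h3, Units.val_one, one_smul, Units.val_one]
    have h3 : orderOf u = s := by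
      rw [← h2]
      exact orderOf_eq_orderOf_iff.2 fun i => (hone i).symm
    rw [← h3, ← Nat.card_units]
    exact orderOf_dvd_natCard u
  rw [Fintype.card_fin] at hn
  exact h.kill_coord hg hst.prime hc hst.pGroup hn hsF habs C hgR

/-- **Part (A)** : the two structural alternatives, or a row. -/
theorem struct {g : GL (Fin n) F} (hn : 10 ≤ n) (hk : n < 2 * k) (hg1 : 2 * k + 1 < orderOf g)
    (hg2 : orderOf g ∣ Nat.card F ^ k - 1)
    (hg3 : ∀ i : ℕ, 1 ≤ i → i < k → Nat.Coprime (orderOf g) (Nat.card F ^ i - 1))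
    (H : Subgroup (GL (Fin n) F)) (hgH : g ∈ H) (hirr : ActsIrreducibly (matrixSet H)) :
    (∃ (F₀ : Subfield F) (r : ℕ) (P : GL (Fin n) F), r.Prime ∧ Nat.card F = Nat.card F₀ ^ r ∧
      H ≤ subfieldSubgroup F₀ P) ∨
    (∃ (r : ℕ) (E : Subalgebra F (Matrix (Fin n) (Fin n) F)), r.Prime ∧ r ∣ Nat.gcd n k ∧
      IsFieldSubalgebra r E ∧ H ≤ subalgebraNormalizer E) ∨
    (∃ P : Subgroup (GL (Fin n) F), P ≤ H ∧ Row k (orderOf g) P) := by
  have h := num_of hn hk hg1 hg2 hg3
  have hne : Nonempty (Fin n) := ⟨⟨0, by omega⟩⟩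
  rcases H917.lin_split (by rw [Fintype.card_fin]; omega) H with ⟨W, hW0, hW1, hHW⟩ | ⟨t, d, D, hD, hHD⟩ |
      ⟨r, K, hr, hK, hHK⟩ | ⟨n₁, n₂, e, P, h1, h2, hHP⟩ | ⟨-, hspan⟩
  · exfalso
    rcases hirr W (by
      rintro _ ⟨x, hx, rfl⟩
      rintro _ ⟨v, hv, rfl⟩
      exact (hHW hx v).1 hv) with h1 | h1
    · exact hW0 h1
    · exact hW1 h1
  · exact (h.kill_decomp rfl hD (hHD hgH)).elim
  · exact Or.inr (Or.inl ⟨r, K, hr, h.dvd_of_field rfl hr hK (hHK hgH), hK, hHK⟩)
  · exact (h.kill_tensor rfl e P h1 h2 (hHP hgH)).elim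
  rcases H919.C_split H hirr (by rw [Fintype.card_fin]; omega) hspan with
    ⟨N, hNH, hN, hNs, hNc⟩ | ⟨d, t, e, P, E, hW⟩ | ⟨P, hP⟩
  · obtain ⟨s, c, R, hRN, hR, hHR, habs, htype, hchar, hc, hcardR, hcen, hord⟩ :=
      H920.exists_symplecticType hspan hNH hN hNs hNc
    exact (h.kill_sympType rfl habs htype hc hcardR hord (fun x hx y hy => hNc x (hRN hx) y (hRN hy))
      (hHR hgH)).elim
  · exact (h.kill_wreath rfl e P hW.two_le_m hW.two_le_t (hW.wreath hgH)).elim
  · by_cases hreal : ∃ F₀ : Subfield F, F₀ ≠ ⊤ ∧ RealisableOver F₀ (matrixSet P)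
    · obtain ⟨F₀, hF₀, hreal⟩ := hreal
      obtain ⟨F₁, r, B, -, -, hr, hcard, -, hle⟩ :=
        H914.exists_le_subfieldSubgroup hP.normal hP.absIrred hF₀ hreal
      exact Or.inl ⟨F₁, r, B, hr, hcard, hle⟩
    · push Not at hreal
      exact Or.inr (Or.inr ⟨P, hP.le, core_of_residual (hP.isResidualCore hreal), h, g, rfl,
        fun x hx => hP.normal g hgH x hx⟩)

end Cfsg.Agent.H100.Ppd
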