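import Cfsg.Agent.H100.Ppd.CrossLie
import Cfsg.Agent.H100.Ppd.FieldAsm
import Cfsg.Agent.H100.Ppd.StructC
import Cfsg.Agent.H650.Ppd.Psl
import Cfsg.Agent.H525.Ppd.UMain
import Cfsg.Agent.H269.Ppd.PsuFour
import Cfsg.Agent.H315.TwF.Main
import Cfsg.Agent.H948.Ppd.Podd
import Cfsg.Agent.H948.Ppd.Pminus
import Cfsg.Agent.H909.PpdSz
import Cfsg.Agent.H909.PpdReeB
import Cfsg.Agent.H650.Ppd.Psp
import Cfsg.Agent.H156.Ppd.PPlus
import Cfsg.Agent.H2.Ppd.Exc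
import Cfsg.Agent.H69.Ppd.Psu5
import Cfsg.Agent.H744.Ppd.D4Dim
import Cfsg.Agent.H762.Ppd.Psu

/-!
# TEAM PPD (S5948): assembly (helper100)
-/

set_option autoImplicit false

namespace Cfsg.Agent.H100.Ppd

open Cfsg Cfsg.Geo Matrix
open Cfsg.Agent.H915.LD

universe u v w

variable {n : ℕ} {F : Type u} [Field F] [Finite F] {k m : ℕ} {P : Subgroup (GL (Fin n) F)}

/-- Defining characteristic. -/
theorem Row.nat_def (h : Row k m P) (p : ℕ) [hp : Fact p.Prime] [CharP F p] (hT : IsLieTypeChar p (Soc P)) :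
    Nat' P := by
  have hg := h.good p hT
  rcases hT with hT | hT | hT | hT | hT | hT | hT | hT | hT | hT | hT
  · obtain ⟨K, _, _, _, N, h1, h2, ⟨e⟩⟩ := hT
    exact H650.Ppd.nat_psl p h hg h1 h2 e
  · obtain ⟨K, _, _, _, N, h1, h2, ⟨e⟩⟩ := hT
    exact H650.Ppd.nat_psp p h hg h1 h2 e
  · obtain ⟨K, _, _, _, N, q, h0, h1, h2, ⟨e⟩⟩ := hT
    by_cases h6 : 6 ≤ N
    · exact H762.Ppd.nat_psu p h hg h6 h0 e
    · have h3 : N = 3 ∨ N = 4 ∨ N = 5 := by omega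
      rcases h3 with rfl | rfl | rfl
      · exact (H525.Ppd.not_psu3 h hg (p := p) h0 (fun h => h2 ⟨rfl, h⟩) e).elim
      · exact (H269.Ppd.not_psu4 h hg (p := p) h0 e).elim
      · exact (H69.Ppd.not_psu5 h hg (p := p) h0 e).elim
  · obtain ⟨K, _, _, _, N, h1, h2, ⟨e⟩⟩ := hT
    exact H948.Ppd.nat_podd p h hg h1 h2 e
  · obtain ⟨K, _, _, _, N, h1, ⟨e⟩⟩ := hT
    exact H156.Ppd.PPlus.nat_pplus h hg p h1 e
  · obtain ⟨K, _, _, _, N, a, b, h1, h2, ⟨e⟩⟩ := hT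
    exact H948.Ppd.nat_pminus p h hg h1 a b h2 e
  · obtain ⟨K, _, _, _, hT⟩ := hT
    rcases hT with ⟨h3, ⟨e⟩⟩ | ⟨⟨e⟩⟩ | ⟨⟨e⟩⟩ | ⟨⟨e⟩⟩ | ⟨⟨e⟩⟩
    · exact (H744.Ppd.G2.not_g2 h hg (p := p) h3 e).elim
    · exact (H2.Ppd.not_f4 h hg (p := p) e).elim
    · exact (H2.Ppd.not_e6 h hg (p := p) e).elim
    · exact (H2.Ppd.not_e7 h hg (p := p) e).elim
    · exact (H2.Ppd.not_e8 h hg (p := p) e).elim
  · obtain ⟨K, _, _, _, q, hq, ⟨hK, ⟨e⟩⟩ | ⟨hK, ⟨e⟩⟩⟩ := hT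
    · exact (H2.Ppd.not_2e6 h hg (p := p) hq hK e).elim
    · exact (H744.Ppd.D4.not_3d4 h hg (p := p) hq hK e).elim
  · obtain ⟨rfl, hT⟩ := hT
    exact (H909.Ppd.not_sz h hg rfl hT).elim
  · obtain ⟨rfl, hT⟩ := hT
    exact (H315.TwF.not_2f4 h hg rfl hT).elim
  · obtain ⟨rfl, hT⟩ := hT
    exact (H909.Ppd.not_ree h hg rfl hT).elim

/-- **Parts (B) and (C)**, up to the exceptional Chevalley groups and the sporadic groups in part (B). -/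
theorem Row.nat' (h : Row k m P) (hk : IsKnownSimple' (Soc P))
    (hexc : ∀ r : ℕ, r.Prime → (r : F) ≠ 0 → IsExceptionalChevChar r (Soc P) → False)
    (hspor : IsSporadicGroup (Soc P) → False) : Nat' P := by
  obtain ⟨p, hp, hpF, hT⟩ := h.lie' hk hexc hspor
  have : Fact p.Prime := ⟨hp⟩
  have : CharP F p := (CharP.charP_iff_prime_eq_zero hp).2 hpF
  exact h.nat_def p hT

/-- **S5948**, given the classification and the two heavy cross characteristic rows. -/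
theorem main' {F : Type u} [Field F] [Fintype F] {q : ℕ}
    (hKS : ∀ (T : Type u) [Group T] [Finite T] [IsSimpleGroup T], IsKnownSimple' T)
    (hexc : ∀ {n k m : ℕ} {P : Subgroup (GL (Fin n) F)}, Row k m P → ∀ r : ℕ, r.Prime → (r : F) ≠ 0 →
      IsExceptionalChevChar r (Soc P) → False)
    (hspor : ∀ {n k m : ℕ} {P : Subgroup (GL (Fin n) F)}, Row k m P → IsSporadicGroup (Soc P) → False)
    (hF : Fintype.card F = q) (n k : ℕ) (hn : 10 ≤ n) (hk : n < 2 * k) (g : GL (Fin n) F)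
    (hg1 : 2 * k + 1 < orderOf g) (hg2 : orderOf g ∣ q ^ k - 1)
    (hg3 : ∀ i : ℕ, 1 ≤ i → i < k → Nat.Coprime (orderOf g) (q ^ i - 1))
    (H : Subgroup (GL (Fin n) F)) (hgH : g ∈ H) (hirr : ActsIrreducibly (matrixSet H)) :
    (∃ (F₀ : Subfield F) (r : ℕ) (P : GL (Fin n) F), r.Prime ∧ Fintype.card F = Nat.card F₀ ^ r ∧
      H ≤ subfieldSubgroup F₀ P) ∨
    (∃ (r : ℕ) (E : Subalgebra F (Matrix (Fin n) (Fin n) F)), r.Prime ∧ r ∣ Nat.gcd n k ∧ IsFieldSubalgebra r E ∧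
        H ≤ subalgebraNormalizer E) ∨
    specialLinear (Fin n) F ≤ H ∨
    (∃ f : (Fin n → F) → (Fin n → F) → F, IsSymplecticForm f ∧
        ∀ x : GL (Fin n) F, FixesForm {(x : Matrix (Fin n) (Fin n) F)} f → x ∈ H) ∨
    (∃ (τ : F ≃+* F) (f : (Fin n → F) → (Fin n → F) → F), IsUnitaryForm τ f ∧
        ∀ x : GL (Fin n) F, FixesForm {(x : Matrix (Fin n) (Fin n) F)} f →
          Matrix.GeneralLinearGroup.det x = 1 → x ∈ H) ∨
    (∃ Q : (Fin n → F) → F, IsNondegenerateQuadraticForm Q ∧ omegaGL Q ≤ H) := by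
  subst hF
  have hc : Nat.card F = Fintype.card F := Nat.card_eq_fintype_card
  rcases struct hn hk hg1 (by rwa [hc]) (by rw [hc]; exact hg3) H hgH hirr with h | h | ⟨P, hPH, hrow⟩
  · obtain ⟨F₀, r, P, h1, h2, h3⟩ := h
    exact Or.inl ⟨F₀, r, P, h1, by rw [← hc]; exact h2, h3⟩
  · exact Or.inr (Or.inl h)
  · right
    right
    have hs : IsSimpleGroup (Soc P) := hrow.core.simple
    rcases hrow.nat' (hKS (Soc P)) (hexc hrow) (hspor hrow) with h | ⟨f, hf, h⟩ | ⟨τ, f, hf, h⟩ | ⟨Q, hQ, h⟩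
    · exact Or.inl (h.trans hPH)
    · exact Or.inr (Or.inl ⟨f, hf, fun x hx => hPH (h x hx)⟩)
    · exact Or.inr (Or.inr (Or.inl ⟨τ, f, hf, fun x hx hd => hPH (h x hx hd)⟩))
    · exact Or.inr (Or.inr (Or.inr ⟨Q, hQ, h.trans hPH⟩))

end Cfsg.Agent.H100.Ppd
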