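import Cfsg.Agent.H100.Ppd.DefAsm
import Cfsg.Agent.H100.Ppd.CrossSpor
import Cfsg.Agent.H100.Ppd.CrossExc

/-!
# TEAM PPD (S5948): the theorem, given the classification (helper100)
-/

set_option autoImplicit false

namespace Cfsg.Agent.H100.Ppd

open Cfsg Cfsg.Geo Matrix
open Cfsg.Agent.H915.LD

universe u

/-- **S5948**, given the classification. -/
theorem main {F : Type u} [Field F] [Fintype F] {q : ℕ}
    (hKS : ∀ (T : Type u) [Group T] [Finite T] [IsSimpleGroup T], IsKnownSimple' T)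
    (hF : Fintype.card F = q) (n k : ℕ) (hn : 10 ≤ n) (hk : n < 2 * k) (g : GL (Fin n) F)
    (hg1 : 2 * k + 1 < orderOf g) (hg2 : orderOf g ∣ q ^ k - 1)
    (hg3 : ∀ i : ℕ, 1 ≤ i → i < k → Nat.Coprime (orderOf g) (q ^ i - 1))
    (H : Subgroup (GL (Fin n) F)) (hgH : g ∈ H) (hirr : ActsIrreducibly (matrixSet H)) :
    (∃ (F₀ : Subfield F) (r : ℕ) (P : GL (Fin n) F), r.Prime ∧ Fintype.card F = Nat.card F₀ ^ r ∧
      H ≤ subfieldSubgroup F₀ P) ∨
    (∃ (r : ℕ) (E : Subalgebra F (Matrix (Fin n) (Fin n) F)), r.Prime ∧ r ∣ Nat.gcd n k ∧ IsFieldSubalgebra r E ∧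
        H ≤ subalgebraNormalizer E) ∨
    specialLinear (Fin n) F ≤ H ∨
    (∃ f : (Fin n → F) → (Fin n → F) → F, IsSymplecticForm f ∧
        ∀ x : GL (Fin n) F, FixesForm {(x : Matrix (Fin n) (Fin n) F)} f → x ∈ H) ∨
    (∃ (τ : F ≃+* F) (f : (Fin n → F) → (Fin n → F) → F), IsUnitaryForm τ f ∧
        ∀ x : GL (Fin n) F, FixesForm {(x : Matrix (Fin n) (Fin n) F)} f →
          Matrix.GeneralLinearGroup.det x = 1 → x ∈ H) ∨
    (∃ Q : (Fin n → F) → F, IsNondegenerateQuadraticForm Q ∧ omegaGL Q ≤ H) :=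
  main' hKS (fun h r hr hrF hT => h.not_cross_exc hr hrF hT) (fun h hT => h.not_sporadic hT) hF n k hn hk g hg1 hg2
    hg3 H hgH hirr

end Cfsg.Agent.H100.Ppd
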