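import Cfsg.Agent.H100.Ppd.StructA
import Cfsg.Agent.H920.SympC
import Cfsg.Agent.H920.CsNorm

/-!
# TEAM PPD (S5948): the geometric subgroups containing `g` (helper100), part 2

* `Num.dvd_of_field` : if `g` normalises a field of matrices of prime degree `s` then `s ∣ gcd n k`;
* `Num.kill_sympType` : `g` normalises no group of symplectic type.
-/

set_option autoImplicit false
set_option linter.unusedSectionVars false

namespace Cfsg.Agent.H100.Ppd

open Cfsg Cfsg.Geo Matrix
open Cfsg.Agent.H915.LD
open Cfsg.Agent.H251.GeoCard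

universe u v w

section field

variable {ι : Type} [Fintype ι] [DecidableEq ι] {F : Type u} [Field F] [Fintype F]

theorem dvd_card_of_field {r : ℕ} {K : Subalgebra F (Matrix ι ι F)} (hK : IsFieldSubalgebra r K) [Nonempty ι] :
    r ∣ Fintype.card ι := by
  let _ : Field K := (H912.isField_of_fieldSub hK).toField
  have hfd : Module.Finite F K := inferInstance
  have h1 := Module.finrank_mul_finrank F K (ι → F)
  rw [hK.finrank_eq, Module.finrank_fintype_fun_eq_card] at h1
  exact ⟨_, h1.symm⟩

/-- an element `g` of prime order `s` commuting with the field -/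
theorem div_of_commutes [Nonempty ι] {r s : ℕ} (hr : r.Prime) {K : Subalgebra F (Matrix ι ι F)}
    (hK : IsFieldSubalgebra r K) (hs : s.Prime) (hF : ¬ s ∣ Nat.card F) {g : GL ι F} (hgs : g ^ s = 1) (hgne : g ≠ 1)
    (hcomm' : ∀ x ∈ K, (g : Matrix ι ι F) * x = x * (g : Matrix ι ι F)) :
    Div s (Nat.card F ^ r) (Fintype.card ι / r) := by
  classical
  have hfin : Finite (GL ι F) := inferInstance
  have := Fact.mk hs
  let _ : Field K := (H912.isField_of_fieldSub hK).toField
  have hfd : Module.Finite F K := inferInstance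
  have hKfin : Finite K := Module.finite_of_finite F
  have hcomm : ∀ x : K, (g : Matrix ι ι F) * x = x * (g : Matrix ι ι F) := fun x => hcomm' x x.2
  have h1 := Module.finrank_mul_finrank F K (ι → F)
  rw [hK.finrank_eq, Module.finrank_fintype_fun_eq_card] at h1
  have hrank : Module.finrank K (ι → F) = Fintype.card ι / r := by
    rw [← h1, Nat.mul_div_cancel_left _ hr.pos]
  let f : (ι → F) →ₗ[K] (ι → F) :=
    { toFun := fun v => (g : Matrix ι ι F) *ᵥ v
      map_add' := fun u v => Matrix.mulVec_add _ _ _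
      map_smul' := fun x v => by
        change (g : Matrix ι ι F) *ᵥ ((x : Matrix ι ι F) *ᵥ v) =
          (x : Matrix ι ι F) *ᵥ ((g : Matrix ι ι F) *ᵥ v)
        rw [Matrix.mulVec_mulVec, Matrix.mulVec_mulVec, hcomm] }
  have hfk : ∀ (k : ℕ) (v : ι → F), (f ^ k) v = ((g ^ k : GL ι F) : Matrix ι ι F) *ᵥ v := by
    intro k
    induction k with
    | zero => intro v; simp
    | succ k ih =>
      intro v
      rw [pow_succ, Module.End.mul_apply, ih, pow_succ, Units.val_mul, ← Matrix.mulVec_mulVec]
      rfl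
  have hfs : f ^ s = 1 := by
    apply LinearMap.ext
    intro v
    rw [hfk, hgs]
    simp
  have hf1 : f ≠ 1 := by
    intro hf1
    apply hgne
    apply Units.ext
    apply Matrix.toLin'.injective
    apply LinearMap.ext
    intro v
    have h2 := LinearMap.congr_fun hf1 v
    rw [Matrix.toLin'_apply, Units.val_one, Matrix.toLin'_one]
    exact h2
  have hcardK : Nat.card K = Nat.card F ^ r := by
    have h2 := Module.natCard_eq_pow_finrank (K := F) (V := K)
    rwa [hK.finrank_eq] at h2
  have hKs : ¬ s ∣ Nat.card K := by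
    rw [hcardK]
    exact fun h2 => hF (hs.dvd_of_dvd_pow h2)
  have hVfin : Module.Finite K (ι → F) := Module.Finite.of_restrictScalars_finite F K (ι → F)
  have h2 := exists_of_lin hs hKs f hfs hf1
  rwa [hcardK, hrank] at h2

/-- the action on the field has order dividing `r` -/
theorem pow_commutes [Nonempty ι] {r : ℕ} (hr : r.Prime) {K : Subalgebra F (Matrix ι ι F)}
    (hK : IsFieldSubalgebra r K) {g : GL ι F} (hg : g ∈ subalgebraNormalizer K) :
    ∀ x ∈ K, ((g ^ r : GL ι F) : Matrix ι ι F) * x = x * ((g ^ r : GL ι F) : Matrix ι ι F) := by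
  classical
  have hN : H912.NormAlg (subalgebraNormalizer K) K := fun _ hh a ha => (hh a).mp ha
  let _ : Field K := (H912.isField_of_fieldSub hK).toField
  have hfd : Module.Finite F K := inferInstance
  have hKfin : Finite K := Module.finite_of_finite F
  have hgal : IsGalois F K := inferInstance
  set G : subalgebraNormalizer K := ⟨g, hg⟩ with hG
  let σ : K ≃ₐ[F] K := H912.conjSub hN G
  have hσk : ∀ (k : ℕ) (x : K), (((σ ^ k) x : K) : Matrix ι ι F) =
      ((g ^ k : GL ι F) : Matrix ι ι F) * x * (((g ^ k)⁻¹ : GL ι F) : Matrix ι ι F) := by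
    intro k
    induction k with
    | zero => intro x; simp
    | succ k ih =>
      intro x
      rw [pow_succ, AlgEquiv.mul_apply, ih, H912.conjSub_coe, pow_succ, _root_.mul_inv_rev, Units.val_mul,
        Units.val_mul]
      simp only [Matrix.mul_assoc, hG]
  have hσr : σ ^ r = 1 := by
    have h3 : Nat.card (K ≃ₐ[F] K) = r := by
      rw [IsGalois.card_aut_eq_finrank, hK.finrank_eq]
    rw [← h3]
    exact pow_card_eq_one'
  intro x hx
  have h1 := hσk r ⟨x, hx⟩
  rw [hσr] at h1
  have h2 : x = ((g ^ r : GL ι F) : Matrix ι ι F) * x * (((g ^ r)⁻¹ : GL ι F) : Matrix ι ι F) := h1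
  conv_rhs => rw [h2]
  rw [Matrix.mul_assoc, ← Units.val_mul, inv_mul_cancel, Units.val_one, Matrix.mul_one]

end field

section

variable {n : ℕ} {F : Type u} [Field F] [Finite F] {k m : ℕ}

theorem Num.dvd_of_div {q n k m : ℕ} (h : Num q n k m) {r : ℕ} (hr : r.Prime) (hrm : r ∣ m) {s d : ℕ}
    (hs : s.Prime) (hd : d < k) (hdiv : Div r (q ^ s) d) : s ∣ k := by
  obtain ⟨i, h1, h2, h3⟩ := hdiv
  have : Fact r.Prime := ⟨hr⟩
  have h4 : ((q : ZMod r)) ^ (s * i) = 1 := by
    rw [pow_mul]
    have h5 : 1 ≤ (q ^ s) ^ i := Nat.one_le_pow _ _ (Nat.pow_pos (by have := h.one_lt_q; omega))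
    have h6 : (((q ^ s) ^ i - 1 : ℕ) : ZMod r) = 0 := (ZMod.natCast_eq_zero_iff _ _).2 h3
    rw [Nat.cast_sub h5, Nat.cast_pow, Nat.cast_pow, Nat.cast_one, sub_eq_zero] at h6
    exact h6
  rw [h.pow_eq_one_iff hr hrm] at h4
  by_contra hcon
  have h5 : Nat.Coprime k s := ((Nat.Prime.coprime_iff_not_dvd hs).2 hcon).symm
  have h6 := Nat.le_of_dvd (by omega) (h5.dvd_of_dvd_mul_left h4)
  omega

/-- **(C3)** -/
theorem Num.dvd_of_field (h : Num (Nat.card F) n k m) {g : GL (Fin n) F} (hg : orderOf g = m) {s : ℕ}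
    (hs : s.Prime) {K : Subalgebra F (Matrix (Fin n) (Fin n) F)} (hK : IsFieldSubalgebra s K)
    (hgK : g ∈ subalgebraNormalizer K) : s ∣ Nat.gcd n k := by
  have := Fintype.ofFinite F
  have hn : Nonempty (Fin n) := ⟨⟨0, by have := h.ten; omega⟩⟩
  have hsn : s ∣ n := by
    have := dvd_card_of_field hK
    rwa [Fintype.card_fin] at this
  refine Nat.dvd_gcd hsn ?_
  have hn0 : 0 < n := by have := h.ten; omega
  have hdk : n / s < k := by
    have h1 := h.nlt
    have h2 : n / s ≤ n / 2 := Nat.div_le_div_left hs.two_le (by norm_num)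
    omega
  by_cases hall : ∀ r, r.Prime → r ∣ m → r = s
  · -- `m` is a power of `s`
    exfalso
    obtain ⟨r, hr, hrm⟩ := h.exists_prime
    obtain rfl := hall r hr hrm
    -- `s² ∣ m`
    have hrn : r = n := by
      have h1 := h.le_two_mul hr hrm
      obtain ⟨c, hc⟩ := hsn
      have h2 : c < 2 := by
        by_contra hcon
        have : 2 * r ≤ c * r := Nat.mul_le_mul_right r (by omega)
        rw [hc, mul_comm r c] at h1
        omega
      have h3 : c ≠ 0 := by rintro rfl; omega
      have h4 : c = 1 := by omega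
      rw [hc, h4, mul_one]
    have hsq : r ^ 2 ∣ m := by
      by_contra hsq
      exact h.kill (by have := h.nlt; omega) hall hsq
    obtain ⟨c, hc⟩ := hsq
    have hm0 := h.m_ne
    have hc0 : 0 < c := by
      apply Nat.pos_of_ne_zero
      rintro rfl
      exact hm0 (by rw [hc, mul_zero])
    -- the element `g ^ (r c)` of order `r`
    have h1 : (g ^ (r * c)) ^ r = 1 := by
      rw [← pow_mul]
      have : r * c * r = m := by rw [hc]; ring
      rw [this, ← hg, pow_orderOf_eq_one]
    have h2 : g ^ (r * c) ≠ 1 := by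
      intro h2
      have h3 := Nat.le_of_dvd (Nat.mul_pos hr.pos hc0) (orderOf_dvd_of_pow_eq_one h2)
      rw [hg, hc] at h3
      have h4 := hr.two_le
      have h5 : r ^ 2 * c = r * (r * c) := by ring
      rw [h5] at h3
      have h6 : 0 < r * c := Nat.mul_pos hr.pos hc0
      nlinarith
    have h3 : ∀ x ∈ K, ((g ^ (r * c) : GL (Fin n) F) : Matrix (Fin n) (Fin n) F) * x =
        x * ((g ^ (r * c) : GL (Fin n) F) : Matrix (Fin n) (Fin n) F) := by
      intro x hx
      have h4 : (g ^ c) ∈ subalgebraNormalizer K := pow_mem hgK c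
      have h5 := pow_commutes hs hK h4 x hx
      rwa [← pow_mul, mul_comm c r] at h5
    have h4 := div_of_commutes hs hK hr (h.not_dvd_q hr hrm) h1 h2 h3
    rw [Fintype.card_fin] at h4
    have h5 := h.dvd_of_div hr hrm hs hdk h4
    have h6 := h.dvd_sub_one hr hrm
    have h7 := h5.trans h6
    have h8 := Nat.le_of_dvd (by have := hr.two_le; omega) h7
    have := hr.two_le
    omega
  · push Not at hall
    obtain ⟨r, hr, hrm, hrs⟩ := hall
    have h1 := extension hs hK hr (h.not_dvd_q hr hrm) (dvd_card_of_mem hgK (by rwa [hg]))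
    rw [Fintype.card_fin] at h1
    rcases h1 with h1 | h1
    · exact absurd h1 hrs
    · exact h.dvd_of_div hr hrm hs hdk h1

theorem not_sq_dvd_pow_sub {s c r : ℕ} (hs : 2 ≤ s) (hr : r.Prime) (hrs : ¬ r ∣ s) (hlt : s ^ c + 3 ≤ 2 * r) (hc : 1 ≤ c) :
    ¬ r ^ 2 ∣ s ^ (c ^ 2) * ∏ i ∈ Finset.range c, (s ^ (2 * (i + 1)) - 1) := by
  -- all factors except the last one are prime to `r`
  have hsmall : ∀ i, i + 1 < c → ¬ r ∣ s ^ (2 * (i + 1)) - 1 := by
    intro i hi hd
    have h5 : s ^ (2 * (i + 1)) - 1 = (s ^ (i + 1) + 1) * (s ^ (i + 1) - 1) := by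
      rw [mul_comm 2, pow_mul, ← Nat.sq_sub_sq, one_pow]
    rw [h5] at hd
    have h1 : s ^ (i + 1) * 2 ≤ s ^ c := by
      calc s ^ (i + 1) * 2 ≤ s ^ (i + 1) * s := Nat.mul_le_mul_left _ hs
        _ = s ^ (i + 2) := by rw [pow_succ s (i + 1)]
        _ ≤ s ^ c := Nat.pow_le_pow_right (by omega) hi
    have h2 : 1 < s ^ (i + 1) := Nat.one_lt_pow (by omega) (by omega)
    rcases hr.dvd_mul.1 hd with h6 | h6
    · have := Nat.le_of_dvd (by omega) h6
      omega
    · have := Nat.le_of_dvd (by omega) h6
      omega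
  intro hd
  obtain ⟨c', rfl⟩ : ∃ c', c = c' + 1 := ⟨c - 1, by omega⟩
  rw [Finset.prod_range_succ] at hd
  have hcop : Nat.Coprime (r ^ 2) (s ^ ((c' + 1) ^ 2) * ∏ i ∈ Finset.range c', (s ^ (2 * (i + 1)) - 1)) := by
    apply Nat.Coprime.pow_left
    rw [Nat.Prime.coprime_iff_not_dvd hr]
    intro h1
    rcases hr.dvd_mul.1 h1 with h2 | h2
    · exact hrs (hr.dvd_of_dvd_pow h2)
    · obtain ⟨i, hi, h3⟩ := (Prime.dvd_finset_prod_iff hr.prime _).1 h2
      have := Finset.mem_range.1 hi
      exact hsmall i (by omega) h3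
  rw [← mul_assoc] at hd
  have h1 := hcop.dvd_of_dvd_mul_left hd
  have h5 : s ^ (2 * (c' + 1)) - 1 = (s ^ (c' + 1) + 1) * (s ^ (c' + 1) - 1) := by
    rw [mul_comm 2, pow_mul, ← Nat.sq_sub_sq, one_pow]
  rw [h5] at h1
  have h2 : 1 < s ^ (c' + 1) := Nat.one_lt_pow (by omega) (by omega)
  clear hd hcop hsmall h5
  have key : ∀ x : ℕ, 1 < x → x + 1 < 2 * r → r ^ 2 ∣ (x + 1) * (x - 1) → False := by
    intro x hx hxr hdx
    have hr2 := hr.two_le
    have hrp : 0 < r := hr.pos
    have h3 : r ∣ (x + 1) * (x - 1) := (dvd_pow_self r two_ne_zero).trans hdx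
    obtain ⟨y, rfl⟩ : ∃ y, x = y + 1 := ⟨x - 1, by omega⟩
    rw [Nat.add_sub_cancel] at hdx h3
    rcases hr.dvd_mul.1 h3 with h4 | h4
    · obtain ⟨e, he⟩ := h4
      have he2 : e < 2 := by
        by_contra hcon
        have : r * 2 ≤ r * e := Nat.mul_le_mul_left r (by omega)
        omega
      have h0 : e ≠ 0 := by
        rintro rfl
        omega
      have he1 : e = 1 := by omega
      subst he1
      rw [he, mul_one, pow_two] at hdx
      have h8 := Nat.dvd_of_mul_dvd_mul_left hrp hdx
      have h9 := Nat.le_of_dvd (by omega) h8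
      omega
    · obtain ⟨e, he⟩ := h4
      have he2 : e < 2 := by
        by_contra hcon
        have : r * 2 ≤ r * e := Nat.mul_le_mul_left r (by omega)
        omega
      have h0 : e ≠ 0 := by
        rintro rfl
        omega
      have he1 : e = 1 := by omega
      subst he1
      rw [he, mul_one, pow_two] at hdx
      have h8 := Nat.dvd_of_mul_dvd_mul_right hrp hdx
      have h9 : r ∣ 2 := by
        have h10 : r + 1 + 1 = r + 2 := rfl
        rw [h10] at h8
        exact (Nat.dvd_add_right (dvd_refl r)).1 h8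
      have := Nat.le_of_dvd (by omega) h9
      have h11 : r = 2 := by omega
      omega
  exact key _ h2 (by omega) h1

theorem Num.kill_coord (h : Num (Nat.card F) n k m) {g : GL (Fin n) F} (hg : orderOf g = m) {s c : ℕ}
    {R : Subgroup (GL (Fin n) F)} (hs : s.Prime) (hc : 1 ≤ c) (hR : IsPGroup s R) (hn : n = s ^ c)
    (hsF : s ∣ Nat.card F - 1)
    (habs : ActsAbsolutelyIrreducibly (matrixSet R)) (C : H920.Coord R s c)
    (hgR : g ∈ subgroupNormalizer R) : False := by
  classical
  have hfin : Finite (GL (Fin n) F) := inferInstance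
  have hn1 : Nonempty (Fin n) := ⟨⟨0, by have := h.ten; omega⟩⟩
  have hsFact := Fact.mk hs
  have hFt := Fintype.ofFinite F
  -- primes dividing `m` do not divide `s (q - 1)`
  have hcop : ∀ r, r.Prime → r ∣ m → ¬ r ∣ Nat.card F - 1 := by
    intro r hr hrm hd
    exact h.not_div hr hrm (d := 1) (by have := h.six_le; omega) ⟨1, le_rfl, le_rfl, by rwa [pow_one]⟩
  have hrs : ∀ r, r.Prime → r ∣ m → ¬ r ∣ s := by
    intro r hr hrm hd
    exact hcop r hr hrm (hd.trans hsF)
  obtain ⟨A, hA, hind⟩ := C.exists_ind_of_mem hgR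
  -- the order of `A`
  have hAm : A ^ m = 1 := by
    have h1 := hind.pow m
    rw [← hg, pow_orderOf_eq_one] at h1
    rw [← hg]
    exact h1.unique (H920.Coord.Ind.one C)
  set A' : Matrix.symplecticGroup (Fin c) (ZMod s) := ⟨A, hA⟩ with hA'
  have hA'm : A' ^ m = 1 := Subtype.ext hAm
  have hord : m ∣ orderOf A' := by
    set o := orderOf A' with ho
    have ho' : o ∣ m := orderOf_dvd_of_pow_eq_one hA'm
    by_contra hcon
    obtain ⟨c₁, hc₁⟩ := ho'
    have hc1 : c₁ ≠ 1 := by
      rintro rfl
      apply hcon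
      rw [hc₁, mul_one]
    obtain ⟨r, hr, hrc⟩ := Nat.exists_prime_and_dvd hc1
    obtain ⟨c', rfl⟩ := hrc
    have hm0 : m ≠ 0 := h.m_ne
    have hrm : r ∣ m := by rw [hc₁]; exact ⟨o * c', by ring⟩
    have ho0 : 0 < o * c' := by
      apply Nat.pos_of_ne_zero
      intro h0
      apply hm0
      rw [hc₁]
      calc o * (r * c') = r * (o * c') := by ring
        _ = 0 := by rw [h0, mul_zero]
    have h1 : A ^ (o * c') = 1 := by
      have h2 : A' ^ (o * c') = 1 := by rw [pow_mul, ho, pow_orderOf_eq_one, one_pow]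
      exact congrArg Subtype.val h2
    have h2 := hind.pow (o * c')
    rw [h1] at h2
    obtain ⟨x, hx⟩ := C.mem_of_ind_one habs h2
    have h3 : g ^ (o * c') ∈ (R ⊔ scalars (Fin n) F : Subgroup (GL (Fin n) F)) := by
      have h4 := Subgroup.mul_mem_sup x.2 hx
      rwa [mul_inv_cancel_left] at h4
    have hord' : orderOf (g ^ (o * c')) = r := by
      apply orderOf_eq_of_pow_and_pow_div_prime (n := r) hr.pos
      · rw [← pow_mul]
        have : o * c' * r = m := by rw [hc₁]; ring
        rw [this, ← hg, pow_orderOf_eq_one]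
      · intro p hp hpr
        obtain rfl := (Nat.prime_dvd_prime_iff_eq hp hr).1 hpr
        rw [Nat.div_self hp.pos, pow_one]
        intro h4
        have h5 := Nat.le_of_dvd ho0 (orderOf_dvd_of_pow_eq_one h4)
        rw [hg, hc₁] at h5
        have h6 := hp.two_le
        nlinarith
    have h4 : r ∣ Nat.card (R ⊔ scalars (Fin n) F : Subgroup (GL (Fin n) F)) := by
      rw [← hord', ← Subgroup.orderOf_mk (g ^ (o * c')) h3]
      exact orderOf_dvd_natCard _
    rcases hr.dvd_mul.1 (h4.trans (card_sup_dvd _ _ fun z hz g => scalars_central hz g)) with h5 | h5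
    · obtain ⟨a, ha⟩ := (IsPGroup.iff_card).1 hR
      rw [ha] at h5
      exact hrs r hr hrm (hr.dvd_of_dvd_pow h5)
    · exact hcop r hr hrm (h5.trans card_scalars_dvd)
  have hcard : m ∣ s ^ (c ^ 2) * ∏ i ∈ Finset.range c, (s ^ (2 * (i + 1)) - 1) := by
    have h1 := hord.trans (orderOf_dvd_natCard A')
    rwa [LieClassical.SympCount.card_symplecticGroup, ZMod.card] at h1
  -- the possible primes
  have hprime : ∀ r, r.Prime → r ∣ m → r = n + 1 ∧ k = n ∨ r = n - 1 ∧ k = n - 2 := by
    intro r hr hrm
    have hle := h.le_two_mul hr hrm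
    have hten := h.ten
    rcases hr.dvd_mul.1 (hrm.trans hcard) with h3 | h3
    · exact absurd (hr.dvd_of_dvd_pow h3) (hrs r hr hrm)
    · obtain ⟨i, hi, h4⟩ := (Prime.dvd_finset_prod_iff hr.prime _).1 h3
      have hik : i + 1 ≤ c := by
        have := Finset.mem_range.1 hi
        omega
      have h5 : s ^ (2 * (i + 1)) - 1 = (s ^ (i + 1) + 1) * (s ^ (i + 1) - 1) := by
        rw [mul_comm 2, pow_mul, ← Nat.sq_sub_sq, one_pow]
      have hle' : s ^ (i + 1) ≤ s ^ c := Nat.pow_le_pow_right hs.pos hik
      have h1r : 1 < s ^ (i + 1) := Nat.one_lt_pow (by omega) hs.one_lt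
      rw [← hn] at hle'
      have hi' : s ^ (i + 1) = n ∨ s ^ (i + 1) * 2 ≤ n := by
        rcases Nat.lt_or_ge (i + 1) c with h6 | h6
        · right
          calc s ^ (i + 1) * 2 ≤ s ^ (i + 1) * s := Nat.mul_le_mul_left _ hs.two_le
            _ = s ^ (i + 2) := by rw [pow_succ s (i + 1)]
            _ ≤ s ^ c := Nat.pow_le_pow_right hs.pos h6
            _ = n := hn.symm
        · left
          rw [hn]
          congr 1
          omega
      have hk := h.dvd_sub_one hr hrm
      have hnk := h.nlt
      have hkn := h.kle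
      rw [h5] at h4
      rcases hr.dvd_mul.1 h4 with h6 | h6
      · have h7 := Nat.le_of_dvd (by omega) h6
        left
        rcases hi' with h8 | h8
        · rw [h8] at h6
          have h9 : r = n + 1 := by
            obtain ⟨e, he⟩ := h6
            have h10 : e < 2 := by
              by_contra hcon
              have h8 : 2 * r ≤ e * r := Nat.mul_le_mul_right r (by omega)
              rw [mul_comm r e] at he
              omega
            have h11 : e ≠ 0 := by rintro rfl; omega
            have h12 : e = 1 := by omega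
            rw [h12, mul_one] at he
            omega
          refine ⟨h9, ?_⟩
          rw [h9, Nat.add_sub_cancel] at hk
          obtain ⟨e, he⟩ := hk
          have h10 : e < 2 := by
            by_contra hcon
            have h8 : 2 * k ≤ e * k := Nat.mul_le_mul_right k (by omega)
            rw [mul_comm k e] at he
            omega
          have h11 : e ≠ 0 := by rintro rfl; omega
          have h12 : e = 1 := by omega
          rw [h12, mul_one] at he
          omega
        · omega
      · have h7 := Nat.le_of_dvd (by omega) h6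
        right
        rcases hi' with h8 | h8
        · rw [h8] at h6
          have h9 : r = n - 1 := by
            obtain ⟨e, he⟩ := h6
            have h10 : e < 2 := by
              by_contra hcon
              have h8 : 2 * r ≤ e * r := Nat.mul_le_mul_right r (by omega)
              rw [mul_comm r e] at he
              omega
            have h11 : e ≠ 0 := by rintro rfl; omega
            have h12 : e = 1 := by omega
            rw [h12, mul_one] at he
            omega
          refine ⟨h9, ?_⟩
          have h13 : r - 1 = n - 2 := by omega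
          rw [h13] at hk
          obtain ⟨e, he⟩ := hk
          have h10 : e < 2 := by
            by_contra hcon
            have h8 : 2 * k ≤ e * k := Nat.mul_le_mul_right k (by omega)
            rw [mul_comm k e] at he
            omega
          have h11 : e ≠ 0 := by rintro rfl; omega
          have h12 : e = 1 := by omega
          rw [h12, mul_one] at he
          omega
        · omega
  obtain ⟨r₀, hr₀, hr₀m⟩ := h.exists_prime
  have hten := h.ten
  refine h.kill (r₀ := r₀) ?_ ?_ ?_
  · rcases hprime r₀ hr₀ hr₀m with ⟨h1, h2⟩ | ⟨h1, h2⟩ <;> omega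
  · intro r hr hrm
    rcases hprime r₀ hr₀ hr₀m with ⟨h1, h2⟩ | ⟨h1, h2⟩ <;>
      rcases hprime r hr hrm with ⟨h3, h4⟩ | ⟨h3, h4⟩ <;> omega
  · intro h1
    refine not_sq_dvd_pow_sub hs.two_le hr₀ (hrs r₀ hr₀ hr₀m) ?_ hc (h1.trans hcard)
    rw [← hn]
    have := h.le_two_mul hr₀ hr₀m
    omega

end

end Cfsg.Agent.H100.Ppd
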